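import Mathlib
import Cfsg.Agent.Lib.Fusion.RankTwo
import Cfsg.Agent.Lib.Dickson.Main
import Cfsg.Agent.Lib.PGroup.Extraspecial
import Cfsg.Agent.Lib.Transfer.Abelian
import Cfsg.Agent.Lib.SymSyl.Two

/-!
# Groups with an extraspecial Sylow subgroup of order `p ^ 3` and exponent `p`: radical planes bound `p`
-/

set_option autoImplicit false

namespace CfsgLib.TezYag

open Subgroup CfsgLib.Fusion CfsgLib.Dickson Matrix MatrixGroups
open scoped commutatorElement

/-- An extraspecial group of order `p ^ 3` and exponent `p` with centre generated by `z`. -/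
structure XE (p : ℕ) {E : Type*} [Group E] (z : E) : Prop where
  cen : ∀ s, s * z = z * s
  ord : orderOf z = p
  comm : ∀ a b : E, ⁅a, b⁆ ∈ zpowers z
  pow : ∀ a : E, a ^ p = 1
  zen : ∀ a : E, (∀ b, b * a = a * b) → a ∈ zpowers z
  card : Nat.card E = p ^ 3

variable {p : ℕ} [hp : Fact p.Prime]

theorem exists_XE {E : Type*} [Group E] [Finite E] (hE : Cfsg.IsExtraspecial p E)
    (hc : Nat.card E = p ^ 3) (he : Monoid.exponent E = p) : ∃ z : E, XE p z := by
  haveI : Nontrivial (center E) := Finite.one_lt_card_iff_nontrivial.1 (hE.2 ▸ hp.out.one_lt)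
  obtain ⟨z, hz⟩ := exists_ne (1 : center E)
  have hpow : ∀ a : E, a ^ p = 1 := fun a => he ▸ Monoid.pow_exponent_eq_one a
  have ho : orderOf (z : E) = p := orderOf_eq_prime (hpow z) (by simpa using hz)
  have hZ : zpowers (z : E) = center E :=
    eq_of_le_of_card_ge (zpowers_le.2 z.2) (by rw [Nat.card_zpowers, ho, hE.2])
  exact ⟨z, fun s => mem_center_iff.1 z.2 s, ho,
    fun a b => by rw [hZ, ← hE.1.2.2]; exact commutator_mem_commutator (mem_top a) (mem_top b), hpow,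
    fun a ha => by rw [hZ]; exact mem_center_iff.2 ha, hc⟩

namespace XE

variable {E : Type*} [Group E] {z : E} (h : XE p z)
include h

omit hp in
theorem cen' {c : E} (hc : c ∈ zpowers z) (s : E) : s * c = c * s := by
  obtain ⟨k, rfl⟩ := hc
  exact (Commute.zpow_right (h.cen s) k).eq

omit hp in
theorem center_eq : center E = zpowers z :=
  le_antisymm (fun a ha => h.zen a (mem_center_iff.1 ha)) fun _ hc => mem_center_iff.2 (h.cen' hc)

theorem finite : Finite E := Nat.finite_of_card_ne_zero (h.card ▸ pow_ne_zero _ hp.out.ne_zero)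

theorem exists_comm {x : E} (hx : x ∉ zpowers z) : ∃ s : E, ∃ a : ZMod p, a ≠ 0 ∧ ⁅s, x⁆ = zpw z a := by
  obtain ⟨s, hs⟩ : ∃ s, s * x ≠ x * s := by
    by_contra! hn
    exact hx (h.zen x hn)
  obtain ⟨a, ha⟩ := (mem_zpowers_iff_zpw (h.pow z)).1 (h.comm s x)
  refine ⟨s, a, ?_, ha.symm⟩
  rintro rfl
  rw [zpw_zero] at ha
  exact hs (commutatorElement_eq_one_iff_mul_comm.1 ha.symm)

theorem exists_crd : ∃ crd : E →* Multiplicative (Fin 2 → ZMod p), Function.Surjective crd ∧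
    ∀ s, crd s = 1 ↔ s ∈ zpowers z := by
  haveI := h.finite
  have hV : ElemTwo p (E ⧸ center E) := by
    refine ⟨fun a b => ?_, fun a => ?_, ?_⟩
    · induction a using QuotientGroup.induction_on with | H a => ?_
      induction b using QuotientGroup.induction_on with | H b => ?_
      rw [← commutatorElement_eq_one_iff_commute]
      exact (QuotientGroup.eq_one_iff ⁅a, b⁆).2 (h.center_eq ▸ h.comm a b)
    · induction a using QuotientGroup.induction_on with | H a => ?_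
      rw [← QuotientGroup.mk_pow, h.pow, QuotientGroup.mk_one]
    · have := card_eq_card_quotient_mul_card_subgroup (center E)
      rw [h.card, h.center_eq, Nat.card_zpowers, h.ord, pow_succ] at this
      rw [h.center_eq]
      exact (Nat.eq_of_mul_eq_mul_right hp.out.pos this).symm
  haveI : Nontrivial (E ⧸ center E) := Finite.one_lt_card_iff_nontrivial.1
    (hV.card ▸ Nat.one_lt_pow two_ne_zero hp.out.one_lt)
  obtain ⟨v, hv⟩ := exists_ne (1 : E ⧸ center E)
  obtain ⟨w, hw⟩ : ∃ w, w ∉ zpowers v := by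
    by_contra! hn
    have h1 := hV.index_zpowers hv
    rw [(eq_top_iff' _).2 hn, index_top] at h1
    exact hp.out.one_lt.ne h1
  let e := MulEquiv.ofBijective _ (hV.pairHom_bijective hv hw)
  refine ⟨e.symm.toMonoidHom.comp (QuotientGroup.mk' _),
    e.symm.surjective.comp (QuotientGroup.mk'_surjective _), fun s => ?_⟩
  rw [← h.center_eq, ← QuotientGroup.eq_one_iff]
  exact e.symm.map_eq_one_iff

omit hp in
theorem comm_pow (a b : E) {c d : E} (hc : c ∈ zpowers z) (hd : d ∈ zpowers z) (m n : ℕ) :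
    ⁅c * a ^ m, d * b ^ n⁆ = ⁅a, b⁆ ^ (m * n) := by
  have l1 : ∀ x y w : E, ⁅x * y, w⁆ = ⁅x, w⁆ * ⁅y, w⁆ := fun x y w => by
    have := h.cen' (h.comm y w) x
    calc ⁅x * y, w⁆ = x * ⁅y, w⁆ * w * x⁻¹ * w⁻¹ := by simp only [commutatorElement_def]; group
      _ = ⁅y, w⁆ * ⁅x, w⁆ := by rw [this, commutatorElement_def x w]; group
      _ = _ := h.cen' (h.comm x w) _
  have l2 : ∀ x y w : E, ⁅w, x * y⁆ = ⁅w, x⁆ * ⁅w, y⁆ := fun x y w => by
    rw [← commutatorElement_inv, l1, h.cen' (h.comm y w), _root_.mul_inv_rev, commutatorElement_inv,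
      commutatorElement_inv]
  have l3 : ∀ (x w : E) (k : ℕ), ⁅x ^ k, w⁆ = ⁅x, w⁆ ^ k := fun x w k => by
    induction k with
    | zero => simp
    | succ k ih => rw [pow_succ, l1, ih, pow_succ]
  have l4 : ∀ (x w : E) (k : ℕ), ⁅w, x ^ k⁆ = ⁅w, x⁆ ^ k := fun x w k => by
    induction k with
    | zero => simp
    | succ k ih => rw [pow_succ, l2, ih, pow_succ]
  rw [l1, commutatorElement_eq_one_iff_mul_comm.2 (h.cen' hc _).symm, one_mul, l2,
    commutatorElement_eq_one_iff_mul_comm.2 (h.cen' hd _), one_mul, l3, l4, ← pow_mul, mul_comm]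

variable {crd : E →* Multiplicative (Fin 2 → ZMod p)} (hs : Function.Surjective crd)
  (hk : ∀ s, crd s = 1 ↔ s ∈ zpowers z)
include hs hk

theorem exists_rho : ∃ ρ : MulAut E →* GL (Fin 2) (ZMod p),
    ∀ α s, (crd (α s)).toAdd = (ρ α : Matrix (Fin 2) (Fin 2) (ZMod p)) *ᵥ (crd s).toAdd := by
  have h1 : ∀ α : MulAut E, ∃ M : Matrix (Fin 2) (Fin 2) (ZMod p),
      ∀ s, (crd (α s)).toAdd = M *ᵥ (crd s).toAdd := fun α => by
    let f := crd.liftOfSurjective hs ⟨crd.comp α.toMonoidHom, fun s hs' => by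
      rw [MonoidHom.mem_ker, hk, ← h.center_eq] at hs'
      rw [MonoidHom.mem_ker, MonoidHom.comp_apply, hk, ← h.center_eq, mem_center_iff]
      intro g
      obtain ⟨g, rfl⟩ := α.surjective g
      change α g * α s = α s * α g
      rw [← map_mul, ← map_mul, mem_center_iff.1 hs' g]⟩
    have hf : ∀ s, f (crd s) = crd (α s) := fun s => MonoidHom.liftOfRightInverse_comp_apply _ _ _ _ s
    refine ⟨LinearMap.toMatrix' ((AddMonoidHom.toMultiplicative.symm f).toZModLinearMap p), fun s => ?_⟩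
    rw [LinearMap.toMatrix'_mulVec, ← hf]
    rfl
  choose M hM using h1
  have hext : ∀ A B : Matrix (Fin 2) (Fin 2) (ZMod p),
      (∀ s, A *ᵥ (crd s).toAdd = B *ᵥ (crd s).toAdd) → A = B := fun A B hAB => by
    refine Matrix.toLin'.injective (LinearMap.ext fun v => ?_)
    obtain ⟨s, hs'⟩ := hs (Multiplicative.ofAdd v)
    have := hAB s
    rwa [hs'] at this
  let m : MulAut E →* Matrix (Fin 2) (Fin 2) (ZMod p) :=
    { toFun := M
      map_one' := hext _ _ fun s => by rw [← hM, one_mulVec]; rfl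
      map_mul' := fun α β => hext _ _ fun s => by rw [← hM, ← mulVec_mulVec, ← hM, ← hM]; rfl }
  exact ⟨m.toHomUnits, hM⟩

omit hs in
theorem scalar_sq {α : MulAut E} {μ κ : ZMod p} (h1 : ∀ s, (crd (α s)).toAdd = μ • (crd s).toAdd)
    (h2 : α z = zpw z κ) {x : E} (hx : x ∉ zpowers z) : μ ^ 2 = κ := by
  haveI : NeZero p := ⟨hp.out.ne_zero⟩
  have h3 : ∀ s, ∃ c ∈ zpowers z, α s = c * s ^ μ.val := fun s =>
    ⟨α s * (s ^ μ.val)⁻¹, (hk _).1 (by
      rw [map_mul, map_inv, mul_inv_eq_one, map_pow]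
      apply Multiplicative.toAdd.injective
      rw [h1, toAdd_pow, ← Nat.cast_smul_eq_nsmul (ZMod p), ZMod.natCast_zmod_val]), by group⟩
  obtain ⟨s, a, ha, he⟩ := h.exists_comm hx
  obtain ⟨c, hc, e1⟩ := h3 s
  obtain ⟨d, hd, e2⟩ := h3 x
  have h4 := congrArg α he
  rw [map_commutatorElement, e1, e2, h.comm_pow _ _ hc hd, he, map_zpw, h2, zpw_zpw (h.pow z),
    zpw_pow (h.pow z)] at h4
  have h5 := zpw_inj h.ord h4
  push_cast at h5
  rw [ZMod.natCast_zmod_val] at h5
  exact mul_right_cancel₀ ha (by rw [← h5, sq])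

end XE

/-- The point of the projective line with homogeneous coordinates `c`. -/
noncomputable def pnt (c : Fin 2 → ZMod p) : P1 (ZMod p) :=
  if c 1 = 0 then P1.inf else P1.pt (c 0 / c 1)

theorem smul_pnt {g : GL (Fin 2) (ZMod p)} {c : Fin 2 → ZMod p} (hc : c ≠ 0) {μ : ZMod p}
    (h : (g : Matrix (Fin 2) (Fin 2) (ZMod p)) *ᵥ c = μ • c) : ProjGenLinGroup.mk g • pnt c = pnt c := by
  have h0 := congrFun h 0
  have h1 := congrFun h 1
  simp only [mulVec, dotProduct, Fin.sum_univ_two, Pi.smul_apply, smul_eq_mul] at h0 h1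
  rw [mk_eq_pm, pnt]
  split_ifs with e
  · rw [pm_smul_inf_eq_inf]
    have : c 0 ≠ 0 := fun e0 => hc (funext fun i => by fin_cases i <;> simp [e, e0])
    rw [e] at h1
    exact (mul_eq_zero.1 (by linear_combination h1)).resolve_right this
  · rw [pm_smul_pt_eq_pt]
    field_simp
    linear_combination c 1 * h0 - c 0 * h1

theorem exists_of_pnt_eq {c d : Fin 2 → ZMod p} (hc : c ≠ 0) (h : pnt c = pnt d) :
    ∃ t : ZMod p, d = t • c := by
  unfold pnt at h
  split_ifs at h with e1 e2 e2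
  · have : c 0 ≠ 0 := fun e0 => hc (funext fun i => by fin_cases i <;> simp [e1, e0])
    exact ⟨d 0 / c 0, funext fun i => by fin_cases i <;> simp [e1, e2, this]⟩
  · exact absurd h (P1.inf_ne_pt _)
  · exact absurd h (P1.pt_ne_inf _)
  · refine ⟨d 1 / c 1, funext fun i => ?_⟩
    have := P1.pt_inj.1 h
    fin_cases i
    · simp only [Fin.zero_eta, Pi.smul_apply, smul_eq_mul]
      field_simp at this ⊢
      linear_combination -this
    · simp [e1]

theorem exists_pnt (x : P1 (ZMod p)) : ∃ c : Fin 2 → ZMod p, c ≠ 0 ∧ pnt c = x := by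
  rcases P1.eq_inf_or x with rfl | ⟨a, rfl⟩
  · exact ⟨![1, 0], fun h => by simpa using congrFun h 0, by simp [pnt]⟩
  · exact ⟨![a, 1], fun h => by simpa using congrFun h 1, by simp [pnt]⟩

/-- Three rational points fixed by non-involutions of a `p'`-subgroup of `PGL₂`. -/
theorem platonic_of_three {F : Type*} [Field F] [CharP F p] (W : Subgroup PGL(2, F)) [Finite W]
    (hW : ¬ p ∣ Nat.card W) (l : Fin 3 → P1 F) (hl : Function.Injective l) (g : Fin 3 → W)
    (h1 : ∀ i, (g i : PGL(2, F)) • l i = l i) (h2 : ∀ i, g i ^ 2 ≠ 1) :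
    Platonic W 3 12 ∨ Platonic W 4 24 ∨ Platonic W 5 60 := by
  obtain ⟨hU, h⟩ := dickson_regular p W hW
  have hM := (mob_bar p (F := F)).subgroup W
  have hne : ∀ i, g i ≠ 1 := fun i e => h2 i (by rw [e, one_pow])
  have hf : ∀ i, g i • emb (l i) = emb (l i) := fun i => smul_emb_eq_iff.2 (h1 i)
  have hl' : ∀ {i j}, i ≠ j → (emb (l i) : Pbar F) ≠ emb (l j) := fun hij e => hij (hl (emb_injective e))
  rcases h with ⟨x, hx⟩ | ⟨x, y, hxy, -, hx⟩ | h
  · have hUx : hM.U x = ⊥ := (eq_bot_iff_forall _).2 fun u hu =>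
      Subtype.ext (hU x u u.2 (isUnip_coe.2 (hM.mem_U.1 hu)))
    have key : ∀ i j, i ≠ j → x ≠ emb (l i) → x ≠ emb (l j) → False := fun i j hij a b =>
      hne j (hM.fix3 _ _ _ _ a b (hl' hij) (hx _)
        (hM.stabilizer_le_of_U_eq_bot hUx a (hne i) (hx _) (hf i) (hx (g j))) (hf j))
    by_cases a : x = emb (l 0)
    · exact (key 1 2 (by decide) (a ▸ hl' (by decide)) (a ▸ hl' (by decide))).elim
    by_cases b : x = emb (l 1)
    · exact (key 0 2 (by decide) a (b ▸ hl' (by decide))).elim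
    · exact (key 0 1 (by decide) a b).elim
  · have key : ∀ i, emb (l i) = x ∨ emb (l i) = y := fun i => by
      rcases hx (g i) with ⟨a, b⟩ | ⟨a, b⟩
      · exact hM.fix_cases (hne i) hxy a b (hf i)
      · exact absurd (by rw [sq]; exact hM.swap_mul_self hxy a b) (h2 i)
    have a := hl' (show (0 : Fin 3) ≠ 1 by decide)
    have b := hl' (show (0 : Fin 3) ≠ 2 by decide)
    have c := hl' (show (1 : Fin 3) ≠ 2 by decide)
    rcases key 0 with e0 | e0 <;> rcases key 1 with e1 | e1 <;> rcases key 2 with e2 | e2 <;> simp_all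
  · exact h

section Ambient

variable {G : Type*} [Group G] [Finite G] (P : Sylow p G) {z : (P : Subgroup G)} (h : XE p z)
include h

/-- A transvection moving the centre produces the diagonal torus. -/
theorem exists_torus {x : (P : Subgroup G)} (hx : x ∉ zpowers z) {t : G} {b : ZMod p} (hb : b ≠ 0)
    (ht1 : t * z * t⁻¹ = z * zpw (x : G) b) (ht2 : t * x * t⁻¹ = x) (l : (ZMod p)ˣ) :
    ∃ g : G, g * z * g⁻¹ = zpw (z : G) (l : ZMod p) ∧ g * x * g⁻¹ = zpw (x : G) ((l⁻¹ : (ZMod p)ˣ) : ZMod p) := by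
  have hz : (z : G) ^ p = 1 := congrArg Subtype.val (h.pow z)
  have hx' : (x : G) ^ p = 1 := congrArg Subtype.val (h.pow x)
  have hc : Commute (z : G) x := (congrArg Subtype.val (h.cen x)).symm
  have hcj : ∀ (g u : G) (a : ZMod p), g * zpw u a * g⁻¹ = zpw (g * u * g⁻¹) a := fun g u a =>
    map_zpw (MulAut.conj g) u a
  have hlin : ∀ a b c d e f : ZMod p, zpw (zpw (z : G) a * zpw (x : G) b) e * zpw (zpw (z : G) c * zpw (x : G) d) f =
      zpw (z : G) (a * e + c * f) * zpw (x : G) (b * e + d * f) := fun a b c d e f => by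
    rw [mul_zpw (commute_zpw hc _ _), mul_zpw (commute_zpw hc _ _), zpw_zpw hz, zpw_zpw hz, zpw_zpw hx',
      zpw_zpw hx', zpw_add hz, zpw_add hx', mul_assoc, mul_assoc, ← mul_assoc (zpw (x : G) (b * e)),
      ← (commute_zpw hc (c * f) (b * e)).eq, mul_assoc]
  let K₀ : Submonoid SL(2, ZMod p) :=
    { carrier := {M | ∃ g : G, g * z * g⁻¹ = zpw (z : G) (M 0 0) * zpw (x : G) (M 1 0) ∧
        g * x * g⁻¹ = zpw (z : G) (M 0 1) * zpw (x : G) (M 1 1)}
      one_mem' := ⟨1, by simp [zpw_one hz, zpw_zero], by simp [zpw_one hx', zpw_zero]⟩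
      mul_mem' := by
        rintro M N ⟨g, g1, g2⟩ ⟨k, k1, k2⟩
        have e : ∀ u v : G, g * (u * v) * g⁻¹ = g * u * g⁻¹ * (g * v * g⁻¹) := fun u v => by group
        refine ⟨g * k, ?_, ?_⟩
        · rw [show g * k * z * (g * k)⁻¹ = g * (k * z * k⁻¹) * g⁻¹ by group, k1, e, hcj, hcj, g1, g2, hlin,
            CfsgLib.SL2.mul_ap, CfsgLib.SL2.mul_ap]
        · rw [show g * k * x * (g * k)⁻¹ = g * (k * x * k⁻¹) * g⁻¹ by group, k2, e, hcj, hcj, g1, g2, hlin,
            CfsgLib.SL2.mul_ap, CfsgLib.SL2.mul_ap] }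
  let K : Subgroup SL(2, ZMod p) :=
    { K₀ with
      inv_mem' := fun {M} hM => by
        have : M⁻¹ = M ^ (orderOf M - 1) := by
          rw [inv_eq_iff_mul_eq_one, ← pow_succ', Nat.sub_add_cancel (orderOf_pos M), pow_orderOf_eq_one]
        rw [this]
        exact K₀.pow_mem hM _ }
  obtain ⟨s, a, ha, hs⟩ := h.exists_comm hx
  have hK : K = ⊤ := SL2_zmod_eq_top ha hb
    ⟨s, by
      have := congrArg Subtype.val (h.cen s)
      simp only [coe_mul] at this
      simp [zpw_one hz, zpw_zero, this], by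
      have := congrArg (P : Subgroup G).subtype hs
      rw [map_zpw, map_commutatorElement, commutatorElement_def, mul_inv_eq_iff_eq_mul] at this
      simpa [zpw_one hx'] using this⟩
    ⟨t, by simpa [zpw_one hz] using ht1, by
      rw [CfsgLib.SL2.ll_01, CfsgLib.SL2.ll_11, zpw_zero, one_mul, zpw_one hx', ht2]⟩
  obtain ⟨g, g1, g2⟩ : CfsgLib.SL2.dg l ∈ K := hK ▸ mem_top _
  rw [CfsgLib.SL2.dg_00, CfsgLib.SL2.dg_10, zpw_zero, mul_one] at g1
  rw [CfsgLib.SL2.dg_01, CfsgLib.SL2.dg_11, zpw_zero, one_mul] at g2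
  exact ⟨g, g1, g2⟩

/-- The Frattini argument. -/
theorem exists_norm {x : (P : Subgroup G)} {g : G} {l : (ZMod p)ˣ} {m : ZMod p}
    (g1 : g * z * g⁻¹ = zpw (z : G) (l : ZMod p)) (g2 : g * x * g⁻¹ = zpw (x : G) m) :
    ∃ n : normalizer ((P : Subgroup G) : Set G),
      (P : Subgroup G).normalizerMonoidHom n z = zpw z (l : ZMod p) ∧
      ∃ c ∈ zpowers z, (P : Subgroup G).normalizerMonoidHom n x = c * zpw x m := by
  have hz : (z : G) ^ p = 1 := congrArg Subtype.val (h.pow z)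
  have hcj : ∀ (g u : G) (a : ZMod p), g * zpw u a * g⁻¹ = zpw (g * u * g⁻¹) a := fun g u a =>
    map_zpw (MulAut.conj g) u a
  have hcz : ∀ {k c : G}, k * z = z * k → c ∈ zpowers (z : G) → k * c = c * k := by
    rintro k _ hk ⟨i, rfl⟩
    exact (Commute.zpow_right hk i).eq
  let K : Subgroup G :=
    { carrier := {k | k * z = z * k ∧ ⁅k, (x : G)⁆ ∈ zpowers (z : G)}
      one_mem' := ⟨by rw [one_mul, mul_one], by rw [commutatorElement_one_left]; exact one_mem _⟩
      mul_mem' := by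
        rintro k l ⟨k1, k2⟩ ⟨l1, l2⟩
        refine ⟨(Commute.mul_left k1 l1).eq, ?_⟩
        have : ⁅k * l, (x : G)⁆ = k * ⁅l, (x : G)⁆ * k⁻¹ * ⁅k, (x : G)⁆ := by
          simp only [commutatorElement_def]; group
        rw [this, hcz k1 l2, mul_inv_cancel_right]
        exact mul_mem l2 k2
      inv_mem' := by
        rintro k ⟨k1, k2⟩
        refine ⟨(Commute.inv_left k1).eq, ?_⟩
        have : ⁅k⁻¹, (x : G)⁆ = k⁻¹ * ⁅k, (x : G)⁆⁻¹ * k := by
          simp only [commutatorElement_def]; group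
        rw [this, mul_assoc, ← hcz k1 (inv_mem k2), inv_mul_cancel_left]
        exact inv_mem k2 }
  have hcm : ∀ a b : (P : Subgroup G), ⁅(a : G), (b : G)⁆ ∈ zpowers (z : G) := fun a b => by
    obtain ⟨i, hi⟩ := h.comm a b
    exact ⟨i, congrArg Subtype.val hi⟩
  have hcen : ∀ s ∈ (P : Subgroup G), s * z = z * s := fun s hs => congrArg Subtype.val (h.cen ⟨s, hs⟩)
  have h1 : (P : Subgroup G) ≤ K := fun s hs => ⟨hcen s hs, hcm ⟨s, hs⟩ x⟩
  have g3 : g⁻¹ * z * g⁻¹⁻¹ = zpw (z : G) ((l⁻¹ : (ZMod p)ˣ) : ZMod p) := by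
    have : g * zpw (z : G) ((l⁻¹ : (ZMod p)ˣ) : ZMod p) * g⁻¹ = z := by
      rw [hcj, g1, zpw_zpw hz, Units.mul_inv, zpw_one hz]
    rw [← this]
    conv_rhs => rw [this]
    group
  have hconj : ∀ {u c : G} {a : ZMod p}, u * z * u⁻¹ = zpw (z : G) a → c ∈ zpowers (z : G) →
      u * c * u⁻¹ ∈ zpowers (z : G) := by
    rintro u _ a hu ⟨i, rfl⟩
    change u * (z : G) ^ i * u⁻¹ ∈ _
    rw [← conj_zpow, hu]
    exact zpow_mem (zpw_mem_zpowers _ _) i
  have h2 : CfsgLib.Tech.cj g⁻¹ (P : Subgroup G) ≤ K := by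
    rintro _ ⟨s, hs, rfl⟩
    change g⁻¹ * s * g⁻¹⁻¹ ∈ K
    constructor
    · have := hcz (hcen s hs) (g1 ▸ zpw_mem_zpowers (z : G) (l : ZMod p))
      calc g⁻¹ * s * g⁻¹⁻¹ * z = g⁻¹ * (s * (g * z * g⁻¹)) * g := by group
        _ = _ := by rw [this]; group
    · have e : ⁅g⁻¹ * s * g⁻¹⁻¹, (x : G)⁆ = g⁻¹ * ⁅s, g * x * g⁻¹⁆ * g⁻¹⁻¹ := by
        simp only [commutatorElement_def]; group
      rw [e]
      exact hconj g3 (hcm ⟨s, hs⟩ ⟨_, g2 ▸ zpw_mem x.2 m⟩)
  obtain ⟨n, hn, k, hk, rfl⟩ := CfsgLib.Transfer.exists_normalizer_mul_of_le P h1 h2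
  have n1 : n * z * n⁻¹ = zpw (z : G) (l : ZMod p) := by
    rw [← g1, mul_assoc n k, hk.1]
    group
  refine ⟨⟨n, hn⟩, Subtype.ext (n1.trans (map_zpw (P : Subgroup G).subtype z _).symm), ?_⟩
  obtain ⟨i, hi⟩ := hconj n1 (inv_mem hk.2)
  refine ⟨z ^ i, ⟨i, rfl⟩, Subtype.ext ?_⟩
  change n * x * n⁻¹ = (z : G) ^ i * (P : Subgroup G).subtype (zpw x m)
  have hi' : (z : G) ^ i = n * ⁅k, (x : G)⁆⁻¹ * n⁻¹ := hi
  rw [map_zpw, coe_subtype, ← g2, hi', commutatorElement_def]
  group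

/-- The image of `N(P)` in `PGL₂(p)`. -/
theorem exists_W : ∃ (W : Subgroup PGL(2, ZMod p)) (pt : ↥(P : Subgroup G) → P1 (ZMod p)),
    ¬ p ∣ Nat.card W ∧
    (∀ x y, x ∉ zpowers z → pt x = pt y → ∃ c ∈ zpowers z, ∃ i : ℕ, y = c * x ^ i) ∧
    (∀ l, ∃ x, x ∉ zpowers z ∧ pt x = l) ∧
    ∀ x, x ∉ zpowers z → ∀ (t : G) (b : ZMod p), b ≠ 0 → t * z * t⁻¹ = z * zpw (x : G) b →
      t * x * t⁻¹ = x → ∃ w : W, (w : PGL(2, ZMod p)) • pt x = pt x ∧ ∀ k, w ^ k = 1 → p - 1 ∣ 3 * k := by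
  haveI : NeZero p := ⟨hp.out.ne_zero⟩
  obtain ⟨crd, hs, hk⟩ := h.exists_crd
  obtain ⟨ρ, hρ⟩ := h.exists_rho hs hk
  let θ : normalizer ((P : Subgroup G) : Set G) →* PGL(2, ZMod p) :=
    (ProjGenLinGroup.mk.comp ρ).comp (P : Subgroup G).normalizerMonoidHom
  have hne : ∀ {x}, x ∉ zpowers z → (crd x).toAdd ≠ 0 := fun hx e => hx ((hk _).1 e)
  refine ⟨θ.range, fun x => pnt (crd x).toAdd, ?_, fun x y hx e => ?_, fun l => ?_,
    fun x hx t b hb ht1 ht2 => ?_⟩
  · rw [← index_ker]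
    refine fun hd => (P.subtype le_normalizer).not_dvd_index (hd.trans (index_dvd_of_le fun n hn => ?_))
    have : ρ ((P : Subgroup G).normalizerMonoidHom n) = 1 := Units.val_injective
      (Matrix.toLin'.injective (LinearMap.ext fun v => by
        obtain ⟨s, hs'⟩ := hs (Multiplicative.ofAdd v)
        obtain rfl : (crd s).toAdd = v := congrArg Multiplicative.toAdd hs'
        rw [toLin'_apply, toLin'_apply, ← hρ, Units.val_one, one_mulVec]
        have e : (P : Subgroup G).normalizerMonoidHom n s = ⁅(⟨n, hn⟩ : (P : Subgroup G)), s⁆ * s :=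
          Subtype.ext (by
            change (n : G) * s * (n : G)⁻¹ = (n : G) * s * (n : G)⁻¹ * (s : G)⁻¹ * s
            group)
        rw [e, map_mul, (hk _).2 (h.comm _ _), one_mul]))
    change ProjGenLinGroup.mk (ρ _) = 1
    rw [this, map_one]
  · obtain ⟨t, ht⟩ := exists_of_pnt_eq (hne hx) e
    refine ⟨y * (x ^ t.val)⁻¹, (hk _).1 ?_, t.val, by group⟩
    rw [map_mul, map_inv, mul_inv_eq_one, map_pow]
    apply Multiplicative.toAdd.injective
    rw [ht, toAdd_pow, ← Nat.cast_smul_eq_nsmul (ZMod p), ZMod.natCast_zmod_val]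
  · obtain ⟨c, hc, rfl⟩ := exists_pnt l
    obtain ⟨x, hx⟩ := hs (Multiplicative.ofAdd c)
    exact ⟨x, fun e => hc (by rw [(hk x).2 e] at hx; exact (congrArg Multiplicative.toAdd hx).symm),
      by simp only [hx, toAdd_ofAdd]⟩
  · obtain ⟨l, hl⟩ := IsCyclic.exists_ofOrder_eq_natCard (α := (ZMod p)ˣ)
    obtain ⟨g, g1, g2⟩ := exists_torus P h hx hb ht1 ht2 l
    obtain ⟨n, n1, c, hc, n2⟩ := exists_norm P h g1 g2
    set α := (P : Subgroup G).normalizerMonoidHom n with hα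
    have hzp : ∀ (s : (P : Subgroup G)) (a : ZMod p), (crd (zpw s a)).toAdd = a • (crd s).toAdd := fun s a => by
      rw [← ZMod.natCast_zmod_val a, zpw_natCast (h.pow s), map_pow, toAdd_pow, Nat.cast_smul_eq_nsmul]
    have e1 : (ρ α : Matrix (Fin 2) (Fin 2) (ZMod p)) *ᵥ (crd x).toAdd =
        ((l⁻¹ : (ZMod p)ˣ) : ZMod p) • (crd x).toAdd := by
      rw [← hρ, n2, map_mul, (hk c).2 hc, one_mul, hzp]
    refine ⟨⟨θ n, n, rfl⟩, smul_pnt (hne hx) e1, fun k hk' => ?_⟩
    have e2 : ρ (α ^ k) ∈ center (GL (Fin 2) (ZMod p)) := by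
      rw [← ProjGenLinGroup.mk_eq_one, map_pow, map_pow]
      exact congrArg Subtype.val hk'
    obtain ⟨μ, hμ⟩ := GeneralLinearGroup.mem_center_iff_val_mem_range_scalar.1 e2
    have e3 : ∀ s, (crd ((α ^ k) s)).toAdd = μ • (crd s).toAdd := fun s => by
      rw [hρ, ← hμ, scalar_apply, ← smul_one_eq_diagonal, smul_mulVec, one_mulVec]
    have e4 : ∀ j : ℕ, (α ^ j) z = zpw z ((l : ZMod p) ^ j) := fun j => by
      induction j with
      | zero => simp [zpw_one (h.pow z)]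
      | succ j ih => rw [pow_succ', MulAut.mul_apply, ih, map_zpw, n1, zpw_zpw (h.pow z), pow_succ']
    have e5 : ∀ j : ℕ, (crd ((α ^ j) x)).toAdd = ((l⁻¹ : (ZMod p)ˣ) : ZMod p) ^ j • (crd x).toAdd := fun j => by
      induction j with
      | zero => rw [pow_zero, pow_zero, one_smul, MulAut.one_apply]
      | succ j ih => rw [pow_succ', MulAut.mul_apply, hρ, ih, mulVec_smul, e1, smul_smul, pow_succ]
    have e6 := h.scalar_sq hk e3 (e4 k) hx
    have e7 : μ = ((l⁻¹ : (ZMod p)ˣ) : ZMod p) ^ k := smul_left_injective _ (hne hx) ((e3 x).symm.trans (e5 k))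
    have e8 : l ^ (3 * k) = 1 := by
      apply Units.val_injective
      have e9 : ((l⁻¹ : (ZMod p)ˣ) : ZMod p) ^ k * (l : ZMod p) ^ k = 1 := by
        rw [← mul_pow, Units.inv_mul, one_pow]
      rw [Units.val_pow_eq_pow_val, Units.val_one, mul_comm, pow_mul]
      rw [← e7] at e9
      linear_combination (-((l : ZMod p) ^ k) ^ 2) * e6 + (μ * (l : ZMod p) ^ k + 1) * e9
    have := orderOf_dvd_of_pow_eq_one e8
    rwa [hl, Nat.card_eq_fintype_card, ZMod.card_units] at this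

end Ambient

theorem not_platonic {W : Type*} [Group W] {w : W} (hw : ∀ k, w ^ k = 1 → p - 1 ∣ 3 * k) (hp' : 7 < p)
    (h : Platonic W 3 12 ∨ Platonic W 4 24 ∨ Platonic W 5 60) : p = 13 ∧ Platonic W 4 24 := by
  have key : ∀ k, 0 < k → k ≤ 5 → w ^ k = 1 → p = 13 ∧ k = 4 := fun k h0 h5 hk => by
    have h1 := hw k hk
    have h2 := Nat.le_of_dvd (by omega) h1
    have h3 := hp.out
    have : p ≤ 16 := by omega
    interval_cases p <;> first | (exfalso; revert h3; decide) | (interval_cases k <;> omega)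
  rcases h with h | h | h
  · rcases h.2 w with e | e | e <;> have := key _ (by omega) (by omega) e <;> omega
  · rcases h.2 w with e | e | e <;> have := key _ (by omega) (by omega) e
    · omega
    · omega
    · exact ⟨this.1, h⟩
  · rcases h.2 w with e | e | e <;> have := key _ (by omega) (by omega) e <;> omega

variable {G : Type*} [Group G] [Finite G] (P : Sylow p G)

theorem le_thirteen (hE : Cfsg.IsExtraspecial p (P : Subgroup G)) (hc : Nat.card P = p ^ 3)
    (he : Monoid.exponent (P : Subgroup G) = p) (A : Fin 3 → Subgroup G) (hA : Function.Injective A)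
    (hAP : ∀ i, A i ≤ (P : Subgroup G)) (hAc : ∀ i, Nat.card (A i) = p ^ 2)
    (hSL : ∀ i, ∀ φ : MulAut (A i), orderOf φ = p → ∃ g : G, ∀ a : A i, (φ a : G) = g * (a : G) * g⁻¹) :
    p ≤ 13 := by
  by_contra hlt
  obtain ⟨z, h⟩ := exists_XE hE hc he
  obtain ⟨W, pt, hW, hinj, -, hel⟩ := exists_W P h
  have hz1 : z ≠ 1 := fun e => hp.out.one_lt.ne (by rw [← h.ord, e, orderOf_one])
  have hV : ∀ i, ElemTwo p (A i) := fun i =>
    ⟨fun a b => (IsPGroup.isMulCommutative_of_card_eq_prime_sq (hAc i)).is_comm.comm a b,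
      fun a => Subtype.ext (by exact congrArg (P : Subgroup G).subtype (h.pow ⟨a, hAP i a.2⟩)), hAc i⟩
  have hzA : ∀ i, (z : G) ∈ A i := fun i => by
    by_contra hn
    have h1 : (A i).subgroupOf P < (A i).subgroupOf P ⊔ zpowers z :=
      left_lt_sup.2 fun hle => hn (hle (mem_zpowers z))
    have h2 : Nat.card ((A i).subgroupOf P) = p ^ 2 :=
      (Nat.card_congr (subgroupOfEquivOfLe (hAP i)).toEquiv).trans (hAc i)
    have h3 : (A i).subgroupOf P ⊔ zpowers z = ⊤ := by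
      obtain ⟨j, hj, e⟩ := (Nat.dvd_prime_pow hp.out).1
        (h.card ▸ card_subgroup_dvd_card ((A i).subgroupOf P ⊔ zpowers z))
      have := CfsgLib.Core.card_lt_of_lt h1
      rw [h2, e, Nat.pow_lt_pow_iff_right hp.out.one_lt] at this
      obtain rfl : j = 3 := by omega
      exact eq_top_of_card_eq _ (e.trans h.card.symm)
    have h4 : (A i).subgroupOf P ≤ zpowers z := fun a ha => h.zen a fun b => by
      have : (⊤ : Subgroup (P : Subgroup G)) ≤ centralizer {a} := h3 ▸ sup_le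
        (fun c hc' => mem_centralizer_singleton_iff.2 (Subtype.ext
          (by exact congrArg (A i).subtype ((hV i).comm ⟨c, hc'⟩ ⟨a, ha⟩).eq)))
        (zpowers_le.2 (mem_centralizer_singleton_iff.2 (h.cen a).symm))
      exact mem_centralizer_singleton_iff.1 (this (mem_top b))
    have h5 := card_le_of_le h4
    rw [h2, Nat.card_zpowers, h.ord] at h5
    have := hp.out.one_lt
    nlinarith
  have hx : ∀ i, ∃ x : (P : Subgroup G), x ∉ zpowers z ∧ A i = zpowers (z : G) ⊔ zpowers (x : G) ∧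
      ∃ w : W, (w : PGL(2, ZMod p)) • pt x = pt x ∧ ∀ k, w ^ k = 1 → p - 1 ∣ 3 * k := fun i => by
    have hv : (⟨z, hzA i⟩ : A i) ≠ 1 := fun e => hz1 (Subtype.ext (by exact congrArg (A i).subtype e))
    obtain ⟨w, hw⟩ : ∃ w, w ∉ zpowers (⟨z, hzA i⟩ : A i) := by
      by_contra! hn
      have h1 := (hV i).index_zpowers hv
      rw [(eq_top_iff' _).2 hn, index_top] at h1
      exact hp.out.one_lt.ne h1
    have hw' : (⟨w, hAP i w.2⟩ : (P : Subgroup G)) ∉ zpowers z := by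
      rintro ⟨k, hk⟩
      exact hw ⟨k, Subtype.ext (by exact congrArg (P : Subgroup G).subtype hk)⟩
    obtain ⟨φ, hφ, hφ'⟩ := (hV i).exists_SL2_hom hv hw
    obtain ⟨t, ht⟩ := hSL i (φ (CfsgLib.SL2.ll 1)) (by
      rw [orderOf_injective φ hφ]
      refine orderOf_eq_prime (by rw [ll_pow]; simp [CfsgLib.SL2.ll_zero]) fun e => ?_
      simpa using congrArg (fun g : SL(2, ZMod p) => g 1 0) e)
    refine ⟨⟨w, hAP i w.2⟩, hw', le_antisymm (fun a ha => ?_)
      (sup_le (zpowers_le.2 (hzA i)) (zpowers_le.2 w.2)), hel _ hw' t 1 one_ne_zero ?_ ?_⟩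
    · obtain ⟨u, v, e⟩ := (hV i).exists_coord hv hw ⟨a, ha⟩
      have e' := congrArg (A i).subtype e
      rw [map_mul, map_zpw, map_zpw] at e'
      change _ = a at e'
      rw [← e']
      exact mul_mem_sup (zpw_mem_zpowers _ _) (zpw_mem_zpowers _ _)
    · have e := congrArg (A i).subtype (ElemTwo.SL2_apply_fst (hV i) hφ' (CfsgLib.SL2.ll 1))
      rw [map_mul, map_zpw, map_zpw, CfsgLib.SL2.ll_00, CfsgLib.SL2.ll_10] at e
      rw [zpw_one (x := (A i).subtype _) (congrArg Subtype.val (h.pow z))] at e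
      exact (ht _).symm.trans e
    · have e := congrArg (A i).subtype (ElemTwo.SL2_apply_snd (hV i) hφ' (CfsgLib.SL2.ll 1))
      rw [map_mul, map_zpw, map_zpw, CfsgLib.SL2.ll_01, CfsgLib.SL2.ll_11, zpw_zero, one_mul] at e
      rw [zpw_one (x := (A i).subtype _) (congrArg Subtype.val ((hV i).pow w))] at e
      exact (ht _).symm.trans e
  choose x hx1 hx2 w hw1 hw2 using hx
  have hl : Function.Injective fun i => pt (x i) := fun i j e => hA (by
    obtain ⟨c, ⟨k, rfl⟩, m, e1⟩ := hinj _ _ (hx1 i) e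
    refine (eq_of_le_of_card_ge ?_ ((hAc i).trans (hAc j).symm).le).symm
    rw [hx2 j]
    refine sup_le (zpowers_le.2 (hzA i)) (zpowers_le.2 ?_)
    rw [e1]
    exact mul_mem (zpow_mem (hzA i) k) (pow_mem (hx2 i ▸ mem_sup_right (mem_zpowers _)) m))
  have := not_platonic (hw2 0) (by omega) (platonic_of_three W hW _ hl w hw1 fun i e => by
    have := Nat.le_of_dvd (by omega) (hw2 i 2 e)
    omega)
  omega

theorem le_seven (hE : Cfsg.IsExtraspecial p (P : Subgroup G)) (hc : Nat.card P = p ^ 3)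
    (he : Monoid.exponent (P : Subgroup G) = p)
    (hconj : ∀ x y : (P : Subgroup G), x ≠ 1 → y ≠ 1 → ∃ g : G, g * (x : G) * g⁻¹ = (y : G)) : p ≤ 7 := by
  classical
  by_contra hlt
  obtain ⟨z, h⟩ := exists_XE hE hc he
  obtain ⟨W, pt, hW, -, hsur, hel⟩ := exists_W P h
  have hz1 : z ≠ 1 := fun e => hp.out.one_lt.ne (by rw [← h.ord, e, orderOf_one])
  have hz : (z : G) ^ p = 1 := congrArg Subtype.val (h.pow z)
  have hall : ∀ l : P1 (ZMod p), ∃ w : W, (w : PGL(2, ZMod p)) • l = l ∧ ∀ k, w ^ k = 1 → p - 1 ∣ 3 * k := by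
    intro l
    obtain ⟨x, hx, rfl⟩ := hsur l
    obtain ⟨g₀, hg₀⟩ := hconj x z (fun e => hx (e ▸ one_mem _)) hz1
    have hxz : (x : G) * z = z * x := congrArg Subtype.val (h.cen x)
    obtain ⟨c, hc1, hc2⟩ := CfsgLib.SymSyl.exists_conj_mem P (K := centralizer {(z : G)})
      (fun s hs => mem_centralizer_singleton_iff.2 (congrArg Subtype.val (h.cen ⟨s, hs⟩)))
      (x := g₀ * z * g₀⁻¹) (mem_centralizer_singleton_iff.2 (by
        calc g₀ * z * g₀⁻¹ * z = g₀ * z * g₀⁻¹ * (g₀ * x * g₀⁻¹) := by rw [hg₀]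
          _ = g₀ * (z * x) * g₀⁻¹ := by group
          _ = g₀ * x * g₀⁻¹ * (g₀ * z * g₀⁻¹) := by rw [← hxz]; group
          _ = _ := by rw [hg₀])) (n := 1) (by rw [conj_pow, pow_one, hz]; group)
    have hg : c * g₀ * x * (c * g₀)⁻¹ = z := by
      have := mem_centralizer_singleton_iff.1 hc1
      calc c * g₀ * x * (c * g₀)⁻¹ = c * (g₀ * x * g₀⁻¹) * c⁻¹ := by group
        _ = z := by rw [hg₀, this]; group
    have hw : c * (g₀ * z * g₀⁻¹) * c⁻¹ = c * g₀ * z * (c * g₀)⁻¹ := by group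
    rw [hw] at hc2
    generalize c * g₀ = g at hg hc2
    have hw' : (⟨g * z * g⁻¹, hc2⟩ : (P : Subgroup G)) ∉ zpowers z := by
      rintro ⟨k, hk⟩
      have h1 : (z : G) ^ k = g * z * g⁻¹ := congrArg Subtype.val hk
      have h2 : (x : G) ^ k = z := by
        have h0 : g * (x : G) ^ k * g⁻¹ = g * z * g⁻¹ := by rw [← conj_zpow, hg, h1]
        exact mul_left_cancel (mul_right_cancel h0)
      have h3 : zpowers z ≤ zpowers x := zpowers_le.2 ⟨k, Subtype.ext h2⟩
      have h4 := eq_of_le_of_card_ge h3 (by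
        rw [Nat.card_zpowers, Nat.card_zpowers, h.ord]
        exact Nat.le_of_dvd hp.out.pos (orderOf_dvd_of_pow_eq_one (h.pow x)))
      exact hx (h4 ▸ mem_zpowers x)
    obtain ⟨s, b, hb, hs⟩ := h.exists_comm hw'
    have hs' := congrArg (P : Subgroup G).subtype hs
    rw [map_zpw, map_commutatorElement, commutatorElement_def, mul_inv_eq_iff_eq_mul] at hs'
    change (s : G) * (g * z * g⁻¹) * (s : G)⁻¹ = zpw (z : G) b * (g * z * g⁻¹) at hs'
    refine hel x hx (g⁻¹ * s * g) b hb ?_ ?_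
    · have e1 : zpw (z : G) b = g * zpw (x : G) b * g⁻¹ := by
        rw [← hg]
        exact (map_zpw (MulAut.conj g) _ b).symm
      calc g⁻¹ * s * g * z * (g⁻¹ * s * g)⁻¹ = g⁻¹ * (s * (g * z * g⁻¹) * (s : G)⁻¹) * g := by group
        _ = zpw (x : G) b * z := by rw [hs', e1]; group
        _ = _ := (Commute.zpow_left hxz _).eq
    · have e2 : (s : G) * z = z * s := congrArg Subtype.val (h.cen s)
      calc g⁻¹ * s * g * x * (g⁻¹ * s * g)⁻¹ = g⁻¹ * (s * (g * x * g⁻¹) * (s : G)⁻¹) * g := by group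
        _ = g⁻¹ * (g * x * g⁻¹) * g := by rw [hg, e2]; group
        _ = x := by group
  choose w hw1 hw2 using hall
  have hsq : ∀ l, w l ^ 2 ≠ 1 := fun l e => by
    have := Nat.le_of_dvd (by omega) (hw2 l 2 e)
    omega
  obtain ⟨rfl, hP⟩ := not_platonic (hw2 P1.inf) (by omega)
    (platonic_of_three W hW ![P1.inf, P1.pt 0, P1.pt 1] (by
      intro i j e
      fin_cases i <;> fin_cases j <;> simp_all [P1.pt_ne_inf, P1.inf_ne_pt, P1.pt_inj]) (fun i => w _)
      (fun i => hw1 _) fun i => hsq _)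
  obtain ⟨e⟩ := hP.S4
  haveI := Fintype.ofFinite (P1 (ZMod 13))
  have h1 := Finset.card_le_mul_card_image_of_maps_to (s := Finset.univ) (f := fun l => e (w l))
    (t := Finset.univ.filter fun σ : Equiv.Perm (Fin 4) => σ ^ 2 ≠ 1 ∧ σ ^ 3 ≠ 1) (fun l _ => by
      rw [Finset.mem_filter, ← map_pow, ← map_pow, e.map_ne_one_iff, e.map_ne_one_iff]
      exact ⟨Finset.mem_univ _, hsq l, fun e3 => absurd (hw2 l 3 e3) (by decide)⟩) 2 (fun σ _ => by
      by_contra hlt'
      obtain ⟨a, ha, b, hb, c, hc', hab, hac, hbc⟩ := Finset.two_lt_card.1 (not_le.1 hlt')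
      rw [Finset.mem_filter] at ha hb hc'
      have e1 : w b = w a := e.injective (hb.2.trans ha.2.symm)
      have e2 : w c = w a := e.injective (hc'.2.trans ha.2.symm)
      have := pgl_fix3 _ a b c hab hac hbc (hw1 a) (e1 ▸ hw1 b) (e2 ▸ hw1 c)
      exact hsq a (by rw [show w a = 1 from Subtype.ext this, one_pow]))
  have h2 : (Finset.univ.filter fun σ : Equiv.Perm (Fin 4) => σ ^ 2 ≠ 1 ∧ σ ^ 3 ≠ 1).card = 6 := by decide
  rw [h2, Finset.card_univ, ← Nat.card_eq_fintype_card, P1.card, Nat.card_zmod] at h1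
  omega

end CfsgLib.TezYag
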